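import Mathlib.GroupTheory.Sylow
import Mathlib.GroupTheory.SpecificGroups.Cyclic
import Mathlib.GroupTheory.GroupAction.Quotient
import Mathlib.Tactic

/-!
A group of order 126000 whose Sylow 5-subgroups intersect trivially, with no normal Sylow 5-subgroup and
self-centralising subgroups of order 7, has no proper subgroup of index below 50.
-/

set_option autoImplicit false
set_option linter.style.haveILetI false

namespace Cfsg.Agent.SimpleFacts.MinIndexPSUFive.Count

variable {G : Type*} [Group G]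

/-- Two `p`-subgroups with a common element other than 1 generate a `p`-subgroup. -/
def Joins (p : ℕ) (G : Type*) [Group G] : Prop :=
  ∀ A B : Subgroup G, IsPGroup p A → IsPGroup p B → A ⊓ B ≠ ⊥ → IsPGroup p ↥(A ⊔ B)

variable {p : ℕ}

theorem joins_subgroup (h : Joins p G) (H : Subgroup G) : Joins p H := by
  intro A B hA hB hAB
  have h1 := h (A.map H.subtype) (B.map H.subtype) (hA.map _) (hB.map _) (by
    rw [← Subgroup.map_inf _ _ _ H.subtype_injective, Ne,
      Subgroup.map_eq_bot_iff_of_injective _ H.subtype_injective]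
    exact hAB)
  rw [← Subgroup.map_sup] at h1
  exact h1.of_equiv (Subgroup.equivMapOfInjective _ _ H.subtype_injective).symm

theorem sylow_eq (h : Joins p G) (P Q : Sylow p G) {A : Subgroup G} (hA : A ≠ ⊥)
    (h1 : A ≤ P) (h2 : A ≤ Q) : P = Q := by
  have hj := h P Q P.2 Q.2 fun e => hA (le_bot_iff.1 (e ▸ le_inf h1 h2))
  exact Sylow.ext ((P.3 hj le_sup_left).symm.trans (Q.3 hj le_sup_right))

theorem modEq [Finite G] [Fact p.Prime] (h : Joins p G) (R : Sylow p G) :
    Nat.card (Sylow p G) ≡ 1 [MOD Nat.card R] := by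
  classical
  let R' : Subgroup G := R
  have hfix : ∀ (g : R') (Q : Sylow p G), g • Q = Q → g = 1 ∨ Q = R := by
    intro g Q hg
    rw [or_iff_not_imp_left]
    intro hg1
    have hmem : (g : G) ∈ Subgroup.normalizer (Q : Set G) := Sylow.smul_eq_iff_mem_normalizer.1 hg
    have hgQ : (g : G) ∈ (Q : Subgroup G) := by
      have hz : IsPGroup p (Subgroup.zpowers (g : G)) :=
        R.2.to_le (Subgroup.zpowers_le.2 g.2)
      have hsup := IsPGroup.to_sup_of_normal_right' hz Q.2 (Subgroup.zpowers_le.2 hmem)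
      rw [← Q.3 hsup le_sup_right]
      exact Subgroup.mem_sup_left (Subgroup.mem_zpowers _)
    refine sylow_eq h Q R (A := Subgroup.zpowers (g : G)) ?_ (Subgroup.zpowers_le.2 hgQ)
      (Subgroup.zpowers_le.2 g.2)
    rw [Ne, Subgroup.zpowers_eq_bot]
    exact fun e => hg1 (Subtype.ext e)
  have hstab : ∀ Q : Sylow p G, Q ≠ R → MulAction.stabilizer R' Q = ⊥ := fun Q hQ =>
    eq_bot_iff.2 fun g hg => Subgroup.mem_bot.2 ((hfix g Q hg).resolve_right hQ)
  have hRfix : ∀ g : R', g • R = R := fun g =>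
    Sylow.smul_eq_iff_mem_normalizer.2 (Subgroup.le_normalizer g.2)
  have hcl : ∀ (g : R') (Q : Sylow p G), Q ≠ R → g • Q ≠ R := fun g Q hQ e =>
    hQ (MulAction.injective g (e.trans (hRfix g).symm))
  letI act : MulAction R' {Q : Sylow p G // Q ≠ R} :=
    { smul := fun g Q => ⟨g • Q.1, hcl g Q.1 Q.2⟩
      one_smul := fun Q => Subtype.ext (one_smul R' Q.1)
      mul_smul := fun g g' Q => Subtype.ext (mul_smul g g' Q.1) }
  have e := Nat.card_congr (MulAction.selfEquivSigmaOrbitsQuotientStabilizer R' {Q : Sylow p G // Q ≠ R})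
  haveI : Fintype (MulAction.orbitRel.Quotient R' {Q : Sylow p G // Q ≠ R}) := Fintype.ofFinite _
  have hfib : ∀ o : MulAction.orbitRel.Quotient R' {Q : Sylow p G // Q ≠ R},
      Nat.card (R' ⧸ MulAction.stabilizer R' o.out) = Nat.card R' := by
    intro o
    have hb : MulAction.stabilizer R' (o.out) = ⊥ := by
      rw [eq_bot_iff]
      intro g hg
      exact Subgroup.mem_bot.2 ((hfix g o.out.1 (congrArg Subtype.val hg)).resolve_right o.out.2)
    rw [hb, ← Subgroup.index_eq_card, Subgroup.index_bot]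
  rw [Nat.card_sigma, Finset.sum_const_nat (fun o _ => hfib o)] at e
  have hsplit : Nat.card (Sylow p G) = Nat.card {Q : Sylow p G // Q ≠ R} + 1 := by
    haveI := Fintype.ofFinite (Sylow p G)
    rw [Nat.card_eq_fintype_card, Nat.card_eq_fintype_card,
      Fintype.card_subtype_compl, Fintype.card_subtype_eq]
    have : 0 < Fintype.card (Sylow p G) := Fintype.card_pos
    omega
  rw [hsplit, e]
  exact Nat.ModEq.add_right 1 (Nat.modEq_zero_iff_dvd.2 (dvd_mul_left _ _))

/-- The elements counted in two families of Sylow subgroups. -/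
theorem count {s : ℕ} [Fact p.Prime] [Fact s.Prime] [Finite G] (hps : p ≠ s) (h : Joins p G)
    (h' : Joins s G) (R : Sylow p G) (T : Sylow s G) :
    Nat.card (Sylow p G) * (Nat.card R - 1) + Nat.card (Sylow s G) * (Nat.card T - 1) < Nat.card G := by
  classical
  have hcard : ∀ (P : Subgroup G), Nat.card {x : P // x ≠ 1} = Nat.card P - 1 := fun P => by
    haveI := Fintype.ofFinite P
    rw [Nat.card_eq_fintype_card, Nat.card_eq_fintype_card, Fintype.card_subtype_compl,
      Fintype.card_subtype_eq]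
  let A := Σ Q : Sylow p G, {x : (Q : Subgroup G) // x ≠ 1}
  let B := Σ Q : Sylow s G, {x : (Q : Subgroup G) // x ≠ 1}
  have hA : Nat.card A = Nat.card (Sylow p G) * (Nat.card R - 1) := by
    haveI := Fintype.ofFinite (Sylow p G)
    rw [Nat.card_sigma, Finset.sum_const_nat (m := Nat.card R - 1) fun Q _ => ?_,
      Finset.card_univ, Nat.card_eq_fintype_card (α := Sylow p G)]
    rw [hcard, Nat.card_congr (Sylow.equiv Q R).toEquiv]
  have hB : Nat.card B = Nat.card (Sylow s G) * (Nat.card T - 1) := by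
    haveI := Fintype.ofFinite (Sylow s G)
    rw [Nat.card_sigma, Finset.sum_const_nat (m := Nat.card T - 1) fun Q _ => ?_,
      Finset.card_univ, Nat.card_eq_fintype_card (α := Sylow s G)]
    rw [hcard, Nat.card_congr (Sylow.equiv Q T).toEquiv]
  let φ : A ⊕ B → {x : G // x ≠ 1} := Sum.elim
    (fun a => ⟨(a.2.1 : G), fun e => a.2.2 (Subtype.ext e)⟩)
    (fun b => ⟨(b.2.1 : G), fun e => b.2.2 (Subtype.ext e)⟩)
  have hinjA : ∀ a a' : A, (a.2.1 : G) = a'.2.1 → a = a' := by
    rintro ⟨Q, x, hx⟩ ⟨Q', x', hx'⟩ (e : (x : G) = x')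
    obtain rfl : Q = Q' := sylow_eq h Q Q' (A := Subgroup.zpowers (x : G))
      (by rw [Ne, Subgroup.zpowers_eq_bot]; exact fun e1 => hx (Subtype.ext e1))
      (Subgroup.zpowers_le.2 x.2) (Subgroup.zpowers_le.2 (e ▸ x'.2))
    obtain rfl : x = x' := Subtype.ext e
    rfl
  have hinjB : ∀ a a' : B, (a.2.1 : G) = a'.2.1 → a = a' := by
    rintro ⟨Q, x, hx⟩ ⟨Q', x', hx'⟩ (e : (x : G) = x')
    obtain rfl : Q = Q' := sylow_eq h' Q Q' (A := Subgroup.zpowers (x : G))
      (by rw [Ne, Subgroup.zpowers_eq_bot]; exact fun e1 => hx (Subtype.ext e1))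
      (Subgroup.zpowers_le.2 x.2) (Subgroup.zpowers_le.2 (e ▸ x'.2))
    obtain rfl : x = x' := Subtype.ext e
    rfl
  have hdis : ∀ (a : A) (b : B), (a.2.1 : G) ≠ b.2.1 := by
    rintro ⟨Q, x, hx⟩ ⟨Q', x', hx'⟩ (e : (x : G) = x')
    have hd := IsPGroup.disjoint_of_ne p s hps _ _ Q.2 Q'.2
    exact hx (Subtype.ext (Subgroup.mem_bot.1
      (hd.le_bot (Subgroup.mem_inf.2 ⟨x.2, e ▸ x'.2⟩))))
  have hφ : Function.Injective φ := by
    rintro (a | b) (a' | b') e <;> have e' := congrArg Subtype.val e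
    · exact congrArg Sum.inl (hinjA _ _ e')
    · exact absurd e' (hdis _ _)
    · exact absurd e'.symm (hdis _ _)
    · exact congrArg Sum.inr (hinjB _ _ e')
  have hle := Nat.card_le_card_of_injective φ hφ
  rw [Nat.card_sum, hA, hB] at hle
  refine lt_of_le_of_lt hle ?_
  exact Subgroup.card_top (G := G) ▸ (by
    haveI := Fintype.ofFinite G
    rw [Nat.card_eq_fintype_card, Nat.card_eq_fintype_card]
    exact Fintype.card_subtype_lt (x := (1 : G)) (by simp) |>.trans_le (by simp))

theorem index_normalizer [Finite G] [Fact p.Prime] (P : Sylow p G) :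
    (Subgroup.normalizer ((P : Subgroup G) : Set G)).index = Nat.card (Sylow p G) :=
  (Sylow.card_eq_index_normalizer P).symm

/-- The admissible numbers. -/
def chk (n : ℕ) : Bool :=
  (List.range 1009).all fun k =>
    !(Nat.beq (126000 / n / Nat.gcd (126000 / n) 125 % k) 0 &&
      Nat.beq (k % Nat.gcd (126000 / n) 125) (1 % Nat.gcd (126000 / n) 125) && !(Nat.beq k 1) &&
      !(Nat.beq k 0)) ||
    (Nat.beq (126000 / n % 7) 0 &&
      [1, 3].all fun j => !(Nat.beq (126000 / n / 7 % j) 0 && Nat.beq (126000 / n / 7 / j % 7) 1 &&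
        Nat.blt ((Nat.gcd (126000 / n) 125 - 1) * k + 6 * (126000 / n / 7 / j)) (126000 / n)))

theorem chk_all : ∀ n < 50, 2 ≤ n → 126000 % n = 0 → chk n = true := by decide +kernel

theorem fact_five {h : ℕ} (hh : h ∣ 126000) : 5 ^ h.factorization 5 = Nat.gcd h 125 := by
  have h0 : h ≠ 0 := fun e => by rw [e] at hh; norm_num at hh
  have hle : h.factorization 5 ≤ 3 := by
    have h1 := (Nat.factorization_le_iff_dvd h0 (by norm_num)).2 hh 5
    refine h1.trans (le_of_eq ?_)
    rw [show (126000 : ℕ) = 5 ^ 3 * 1008 by norm_num, Nat.factorization_mul (by norm_num) (by norm_num),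
      Finsupp.add_apply, Nat.Prime.factorization_pow (by norm_num),
      Nat.factorization_eq_zero_of_not_dvd (show ¬ 5 ∣ 1008 by norm_num)]
    simp
  refine Nat.dvd_antisymm (Nat.dvd_gcd (Nat.ordProj_dvd _ _) ?_) ?_
  · exact (pow_dvd_pow 5 hle).trans (by norm_num)
  · obtain ⟨k, -, hk⟩ := (Nat.dvd_prime_pow (show Nat.Prime 5 by norm_num)).1
      (Nat.gcd_dvd_right h (5 ^ 3))
    rw [show (125 : ℕ) = 5 ^ 3 by norm_num, hk]
    refine pow_dvd_pow 5 ?_
    exact (Nat.Prime.pow_dvd_iff_le_factorization (by norm_num) h0).1 (hk ▸ Nat.gcd_dvd_left _ _)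

theorem fact_seven {h : ℕ} (hh : h ∣ 126000) (h7 : 7 ∣ h) : h.factorization 7 = 1 := by
  have h0 : h ≠ 0 := fun e => by rw [e] at hh; norm_num at hh
  refine le_antisymm ?_ ((Nat.Prime.dvd_iff_one_le_factorization (by norm_num) h0).1 h7)
  have h1 := (Nat.factorization_le_iff_dvd h0 (by norm_num)).2 hh 7
  refine h1.trans (le_of_eq ?_)
  rw [show (126000 : ℕ) = 7 * 18000 by norm_num, Nat.factorization_mul (by norm_num) (by norm_num),
    Finsupp.add_apply, Nat.Prime.factorization_self (by norm_num),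
    Nat.factorization_eq_zero_of_not_dvd (show ¬ 7 ∣ 18000 by norm_num)]

theorem joins_of_card (s : ℕ) [Fact s.Prime] [Finite G] (hs : Nat.card G ≠ 0)
    (hf : (Nat.card G).factorization s ≤ 1) : Joins s G := by
  intro A B hA hB hAB
  obtain ⟨P, hP⟩ := hA.exists_le_sylow
  have hP1 : Nat.card P ∣ s := by
    rw [P.card_eq_multiplicity]
    exact (pow_dvd_pow s hf).trans (by rw [pow_one])
  have key : ∀ C : Subgroup G, IsPGroup s C → A ⊓ B ≤ C → C = A ⊓ B := by
    intro C hC hle
    obtain ⟨Q, hQ⟩ := hC.exists_le_sylow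
    have hQ1 : Nat.card Q ∣ s := by rw [Nat.card_congr (Sylow.equiv Q P).toEquiv]; exact hP1
    have hd := (Nat.dvd_prime Fact.out).1 ((Subgroup.card_dvd_of_le hQ).trans hQ1)
    have hd' := (Nat.dvd_prime Fact.out).1 ((Subgroup.card_dvd_of_le (hle.trans hQ)).trans hQ1)
    refine (Subgroup.eq_of_le_of_card_ge hle ?_).symm
    rcases hd' with e | e
    · exact absurd (Subgroup.card_eq_one.1 e) hAB
    · rcases hd with e' | e' <;> rw [e, e']
      exact (Fact.out : s.Prime).one_lt.le
  obtain rfl : A = B := (key A hA inf_le_left).trans (key B hB inf_le_right).symm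
  rwa [sup_idem]

variable [Finite G] (hG : Nat.card G = 126000) (h5 : Joins 5 G)
  (hn : ∀ P : Sylow 5 G, ¬ (P : Subgroup G).Normal)
  (h7 : ∀ g : G, orderOf g ∉ [14, 21, 35])

include hG h5 hn in
theorem card_le_of_normal (H : Subgroup G) (R : Subgroup G) (hR : R ≠ ⊥) (hR5 : IsPGroup 5 R)
    (hnorm : H ≤ Subgroup.normalizer (R : Set G)) : Nat.card H ≤ 1000 := by
  haveI : Fact (Nat.Prime 5) := ⟨by norm_num⟩
  obtain ⟨P, hP⟩ := hR5.exists_le_sylow
  have hHN : H ≤ Subgroup.normalizer ((P : Subgroup G) : Set G) := by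
    intro h hh
    refine Sylow.smul_eq_iff_mem_normalizer.1 (sylow_eq h5 _ P hR (fun r hr => ?_) hP)
    rw [Sylow.smul_def, Sylow.pointwise_smul_def, Subgroup.mem_pointwise_smul_iff_inv_smul_mem]
    refine hP ?_
    have h1 := (Subgroup.mem_normalizer_iff''.1 (hnorm hh) r).1 hr
    simpa [MulAut.smul_def] using h1
  have hmod := modEq h5 P
  have hP125 : Nat.card P = 125 := by
    rw [P.card_eq_multiplicity, hG, fact_five dvd_rfl]; norm_num
  rw [hP125] at hmod
  have hne : Nat.card (Sylow 5 G) ≠ 1 := by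
    intro h1
    rw [← index_normalizer P, Subgroup.index_eq_one] at h1
    exact hn P (Subgroup.normalizer_eq_top_iff.1 h1)
  have hN := Subgroup.card_mul_index (Subgroup.normalizer ((P : Subgroup G) : Set G))
  rw [hG] at hN
  rw [index_normalizer P] at hN
  have hpos : 0 < Nat.card (Sylow 5 G) := Nat.card_pos
  have h126 : 126 ≤ Nat.card (Sylow 5 G) := by
    unfold Nat.ModEq at hmod
    omega
  refine (Nat.le_of_dvd Nat.card_pos (Subgroup.card_dvd_of_le hHN)).trans ?_
  by_contra hcon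
  have := Nat.mul_le_mul (Nat.succ_le_of_lt (not_le.1 hcon)) h126
  omega

include hG h7 in
theorem card_normalizer_seven (T : Subgroup G) (hT : Nat.card T = 7) :
    Nat.card (Subgroup.normalizer (T : Set G)) ∣ 21 := by
  haveI : Fact (Nat.Prime 7) := ⟨by norm_num⟩
  haveI : IsCyclic T := isCyclic_of_prime_card hT
  obtain ⟨g, hg⟩ := IsCyclic.exists_ofOrder_eq_natCard (α := T)
  rw [hT] at hg
  have hC : IsPGroup 7 (Subgroup.centralizer (T : Set G)) := by
    rw [IsPGroup.iff_card]
    refine ⟨(Nat.card (Subgroup.centralizer (T : Set G))).primeFactorsList.length, ?_⟩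
    refine Nat.eq_prime_pow_of_unique_prime_dvd Nat.card_pos.ne' fun {ℓ} hℓ hdvd => ?_
    by_contra hne
    haveI : Fact ℓ.Prime := ⟨hℓ⟩
    obtain ⟨c, hc⟩ := exists_prime_orderOf_dvd_card' ℓ hdvd
    have hcomm : Commute (g : G) (c : G) := Subgroup.mem_centralizer_iff.1 c.2 _ g.2
    have hord : orderOf ((g : G) * c) = 7 * ℓ := by
      rw [hcomm.orderOf_mul_eq_mul_orderOf_of_coprime (by
        rw [Subgroup.orderOf_coe, Subgroup.orderOf_coe, hg, hc]
        exact (Nat.coprime_primes (by norm_num) hℓ).2 (Ne.symm hne)),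
        Subgroup.orderOf_coe, Subgroup.orderOf_coe, hg, hc]
    have hl : ℓ ∣ 126000 := hG ▸ hdvd.trans (Subgroup.card_subgroup_dvd_card _)
    have hl' : ℓ = 2 ∨ ℓ = 3 ∨ ℓ = 5 := by
      rw [show (126000 : ℕ) = 2 ^ 4 * (3 ^ 2 * (5 ^ 3 * 7)) by norm_num] at hl
      have hp : ∀ {a k : ℕ}, a.Prime → ℓ ∣ a ^ k → ℓ = a := fun ha h =>
        (Nat.prime_dvd_prime_iff_eq hℓ ha).1 (hℓ.dvd_of_dvd_pow h)
      rcases hℓ.dvd_mul.1 hl with h | h
      · exact Or.inl (hp (by norm_num) h)
      rcases hℓ.dvd_mul.1 h with h | h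
      · exact Or.inr (Or.inl (hp (by norm_num) h))
      rcases hℓ.dvd_mul.1 h with h | h
      · exact Or.inr (Or.inr (hp (by norm_num) h))
      · exact absurd ((Nat.prime_dvd_prime_iff_eq hℓ (by norm_num)).1 h) hne
    apply h7 ((g : G) * c)
    rw [hord]
    rcases hl' with rfl | rfl | rfl <;> decide
  obtain ⟨k, hk⟩ := hC.exists_card_eq
  have hk1 : k ≤ 1 := by
    have h1 : 7 ^ k ∣ 126000 := hG ▸ hk ▸ Subgroup.card_subgroup_dvd_card _
    by_contra hk2
    have := (pow_dvd_pow 7 (show 2 ≤ k by omega)).trans h1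
    norm_num at this
  have hcardC : Nat.card (Subgroup.centralizer (T : Set G)) ∣ 7 := hk ▸ (by
    simpa using pow_dvd_pow 7 hk1)
  have hind : (T.normalizerMonoidHom.ker).index ∣ 6 := by
    rw [Subgroup.index_ker]
    refine (Subgroup.card_subgroup_dvd_card _).trans ?_
    rw [IsCyclic.card_mulAut T, hT, Nat.totient_prime (by norm_num)]
  have hker : Nat.card T.normalizerMonoidHom.ker ∣ 7 := by
    rw [Subgroup.normalizerMonoidHom_ker]
    rw [Nat.card_congr (Subgroup.subgroupOfEquivOfLe (Subgroup.centralizer_le_normalizer (T : Set G))).toEquiv]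
    exact hcardC
  have h42 : Nat.card (Subgroup.normalizer (T : Set G)) ∣ 42 := by
    rw [← Subgroup.card_mul_index T.normalizerMonoidHom.ker]
    exact mul_dvd_mul hker hind
  obtain ⟨P, hP⟩ := (IsPGroup.of_card (n := 1) (hT.trans (pow_one 7).symm) : IsPGroup 7 T).exists_le_sylow
  have hP7 : Nat.card P = 7 := by
    rw [P.card_eq_multiplicity, hG, fact_seven dvd_rfl (by norm_num)]; norm_num
  have hTP : T = (P : Subgroup G) := Subgroup.eq_of_le_of_card_ge hP (by rw [hP7, hT])
  have hmod := card_sylow_modEq_one 7 G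
  have hidx := Subgroup.card_mul_index (Subgroup.normalizer (T : Set G))
  rw [hG, hTP, index_normalizer P, ← hTP] at hidx
  unfold Nat.ModEq at hmod
  have hlist : Nat.card (Subgroup.normalizer (T : Set G)) ∈ Nat.divisors 42 :=
    Nat.mem_divisors.2 ⟨h42, by norm_num⟩
  have hdiv : Nat.divisors 42 = {1, 2, 3, 6, 7, 14, 21, 42} := by decide
  simp only [hdiv, Finset.mem_insert, Finset.mem_singleton] at hlist
  rcases hlist with e | e | e | e | e | e | e | e <;> rw [e] at hidx ⊢ <;>
    first | (norm_num; done) | (exfalso; omega)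

include hG h5 hn h7 in
theorem index_ge (H : Subgroup G) (hH : H ≠ ⊤) : 50 ≤ H.index := by
  haveI : Fact (Nat.Prime 5) := ⟨by norm_num⟩
  haveI : Fact (Nat.Prime 7) := ⟨by norm_num⟩
  by_contra hlt
  obtain ⟨n, hn0⟩ : ∃ n, n = H.index := ⟨_, rfl⟩
  have hn2 : 2 ≤ n := by
    have h1 : n ≠ 1 := hn0 ▸ fun e => hH (Subgroup.index_eq_one.1 e)
    have h2 : n ≠ 0 := hn0 ▸ Subgroup.index_ne_zero_of_finite
    omega
  have hmul := Subgroup.card_mul_index H
  rw [← hn0, hG] at hmul
  have hchk := chk_all n (by omega) hn2 (Nat.mod_eq_zero_of_dvd ⟨_, by rw [← hmul, mul_comm]⟩)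
  have hdiv : 126000 / n = Nat.card H := by rw [← hmul, Nat.mul_div_cancel _ (by omega)]
  simp only [chk, hdiv] at hchk
  obtain ⟨h, hh⟩ : ∃ h, h = Nat.card H := ⟨_, rfl⟩
  rw [← hh] at hchk hmul
  have hhd : h ∣ 126000 := ⟨n, hmul.symm⟩
  have hbig : 2520 < h := by
    by_contra hc
    have := Nat.mul_le_mul (not_lt.1 hc) (show n ≤ 49 by omega)
    omega
  let R : Sylow 5 H := default
  have hR : Nat.card R = Nat.gcd h 125 := by
    rw [R.card_eq_multiplicity, ← hh, fact_five hhd]
  have hR1 : Nat.card R ≠ 1 := by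
    rw [hR]
    intro hg
    have hc : Nat.Coprime h 125 := hg
    have := Nat.le_of_dvd (by norm_num)
      (hc.dvd_of_dvd_mul_left (show h ∣ 125 * 1008 from hhd))
    omega
  have hmod := modEq (joins_subgroup h5 H) R
  have hk1 : Nat.card (Sylow 5 H) ≠ 1 := by
    intro h1
    rw [← index_normalizer R, Subgroup.index_eq_one] at h1
    have hnorm : H ≤ Subgroup.normalizer (((R : Subgroup H).map H.subtype : Subgroup G) : Set G) := by
      intro x hx
      have h2 : (⟨x, hx⟩ : H) ∈ Subgroup.normalizer ((R : Subgroup H) : Set H) := h1 ▸ Subgroup.mem_top _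
      exact Subgroup.le_normalizer_map H.subtype (Subgroup.mem_map_of_mem H.subtype h2)
    have := card_le_of_normal hG h5 hn H ((R : Subgroup H).map H.subtype)
      (by
        rw [Ne, Subgroup.map_eq_bot_iff_of_injective _ H.subtype_injective, ← Subgroup.card_eq_one]
        exact hR1)
      (R.2.map _) hnorm
    omega
  have hkd : Nat.card (Sylow 5 H) ∣ h / Nat.gcd h 125 := by
    have h1 := R.card_dvd_index
    have h2 := Subgroup.card_mul_index (R : Subgroup H)
    rw [hR, ← hh] at h2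
    rwa [Nat.div_eq_of_eq_mul_right (Nat.gcd_pos_of_pos_right _ (by norm_num)) h2.symm]
  have hkb : Nat.card (Sylow 5 H) < 1009 := by
    have h1 : h / Nat.gcd h 125 ∣ 1008 := by
      have hc : Nat.Coprime (h / Nat.gcd h 125) 125 := by
        rw [← fact_five hhd]
        exact (Nat.Coprime.pow_left 3 (Nat.coprime_ordCompl (by norm_num) (by omega))).symm.coprime_dvd_left dvd_rfl
      exact hc.dvd_of_dvd_mul_left ((Nat.div_dvd_of_dvd (Nat.gcd_dvd_left _ _)).trans hhd)
    have := Nat.le_of_dvd (by norm_num) (hkd.trans h1)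
    omega
  have hspec := List.all_eq_true.1 hchk _ (List.mem_range.2 hkb)
  have hkpos : Nat.card (Sylow 5 H) ≠ 0 := Nat.card_pos.ne'
  unfold Nat.ModEq at hmod
  rw [hR] at hmod
  simp only [Nat.mod_eq_zero_of_dvd hkd, hmod, Nat.beq_refl, Bool.true_and, Bool.and_eq_true,
    Bool.or_eq_true, Bool.not_eq_true', Bool.and_eq_false_iff] at hspec
  rcases hspec with h1 | ⟨h7', hall⟩
  · simp [Nat.beq_eq, hk1, hkpos] at h1
  have h7d : 7 ∣ h := Nat.dvd_of_mod_eq_zero (Nat.eq_of_beq_eq_true h7')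
  let T : Sylow 7 H := default
  have hT : Nat.card T = 7 := by
    rw [T.card_eq_multiplicity, ← hh, fact_seven hhd h7d, pow_one]
  have hTd : Nat.card (Subgroup.normalizer ((T : Subgroup H) : Set H)) ∣ 21 := by
    have h1 := card_normalizer_seven hG h7 ((T : Subgroup H).map H.subtype) (by
      exact (Nat.card_congr (Subgroup.equivMapOfInjective _ _ H.subtype_injective).symm.toEquiv).trans hT)
    refine dvd_trans ?_ h1
    rw [← Nat.card_congr (Subgroup.equivMapOfInjective _ _ H.subtype_injective).symm.toEquiv]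
    exact Subgroup.card_dvd_of_le (Subgroup.le_normalizer_map H.subtype)
  have hT7 : 7 ∣ Nat.card (Subgroup.normalizer ((T : Subgroup H) : Set H)) :=
    dvd_trans (dvd_of_eq hT.symm) (Subgroup.card_dvd_of_le Subgroup.le_normalizer)
  have hidx := Subgroup.card_mul_index (Subgroup.normalizer ((T : Subgroup H) : Set H))
  rw [← hh, index_normalizer T] at hidx
  have hmod7 := card_sylow_modEq_one 7 H
  unfold Nat.ModEq at hmod7
  have hcount := count (by norm_num) (joins_subgroup h5 H)
    (joins_of_card 7 Nat.card_pos.ne' (by rw [← hh, fact_seven hhd h7d])) R T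
  rw [hR, hT, ← hh] at hcount
  obtain ⟨N, hN⟩ : ∃ N, N = Nat.card (Subgroup.normalizer ((T : Subgroup H) : Set H)) := ⟨_, rfl⟩
  rw [← hN] at hTd hT7 hidx
  have hN' : N = 7 ∨ N = 21 := by
    obtain ⟨j, rfl⟩ := hT7
    have : j ∣ 3 := Nat.dvd_of_mul_dvd_mul_left (by norm_num) (show 7 * j ∣ 7 * 3 from hTd)
    rcases (Nat.dvd_prime (by norm_num)).1 this with rfl | rfl <;> omega
  simp only [List.all_eq_true, Bool.not_eq_true', Bool.and_eq_false_iff, List.mem_cons,
    List.not_mem_nil, or_false] at hall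
  rcases hN' with rfl | rfl
  · have e : h / 7 / 1 = Nat.card (Sylow 7 H) := by rw [← hidx]; omega
    have := hall 1 (Or.inl rfl)
    rw [e, hmod7] at this
    simp only [Nat.mod_one, Nat.beq_refl, Bool.true_eq_false, false_or, ← Bool.not_eq_true, Nat.blt_eq,
      not_true, mul_comm (Nat.gcd h 125 - 1)] at this
    omega
  · have e : h / 7 / 3 = Nat.card (Sylow 7 H) := by rw [← hidx]; omega
    have e' : h / 7 % 3 = 0 := by rw [← hidx]; omega
    have := hall 3 (Or.inr rfl)
    rw [e, e', hmod7] at this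
    simp only [Nat.mod_one, Nat.beq_refl, Bool.true_eq_false, false_or, ← Bool.not_eq_true, Nat.blt_eq,
      not_true, mul_comm (Nat.gcd h 125 - 1)] at this
    omega

end Cfsg.Agent.SimpleFacts.MinIndexPSUFive.Count
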