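import Cfsg.Agent.SimpleFacts.UnitaryThreeSections
import Cfsg.Agent.SimpleFacts.MinIndexPSUFive.Count
import Cfsg.Agent.Lib.Classical.UnitaryBasic

/-!
In the projective special unitary group of dimension three two `p`-subgroups with a common element other
than the identity generate a `p`-subgroup, and the Sylow `p`-subgroups are not normal.
-/

set_option autoImplicit false
set_option linter.style.haveILetI false
set_option linter.unusedSectionVars false

namespace Cfsg.Agent.SimpleFacts.MinIndexPSUFive.Basic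

open Matrix Cfsg.Agent.Classical.Unitary
open Cfsg.Agent.SimpleFacts.UnitaryThreeSections
open Cfsg.Agent.SimpleFacts.MinIndexPSUFive.Count

section Quot

variable {G : Type*} [Group G] [Finite G] {p : ℕ} [Fact p.Prime] {Z : Subgroup G} [Z.Normal]

theorem exists_lift (hZ : Z ≤ Subgroup.center G) (hcop : ¬ p ∣ Nat.card Z) (A : Subgroup (G ⧸ Z))
    (hA : IsPGroup p A) :
    ∃ A' : Subgroup G, IsPGroup p A' ∧ A'.map (QuotientGroup.mk' Z) = A ∧
      ∀ x : G, (x : G ⧸ Z) ∈ A → (∃ k : ℕ, x ^ p ^ k = 1) → x ∈ A' := by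
  obtain ⟨C, hC⟩ : ∃ C, C = A.comap (QuotientGroup.mk' Z) := ⟨_, rfl⟩
  let S : Sylow p C := default
  have hZC : Z ≤ C := fun z hz => by
    rw [hC, Subgroup.mem_comap, QuotientGroup.mk'_apply, (QuotientGroup.eq_one_iff z).2 hz]
    exact one_mem A
  have hCmap : C.map (QuotientGroup.mk' Z) = A := by
    rw [hC, Subgroup.map_comap_eq_self_of_surjective (QuotientGroup.mk'_surjective Z)]
  have himg : ((S : Subgroup C).map C.subtype).map (QuotientGroup.mk' Z) = A := by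
    refine Subgroup.eq_of_le_of_card_ge ?_ ?_
    · exact (Subgroup.map_mono (Subgroup.map_subtype_le _)).trans hCmap.le
    obtain ⟨a, ha⟩ := hA.exists_card_eq
    obtain ⟨b, hb⟩ := ((S.2.map C.subtype).map (QuotientGroup.mk' Z)).exists_card_eq
    refine Nat.le_of_dvd Nat.card_pos ?_
    have hcardC : Nat.card C = Nat.card A * Nat.card Z := by
      let φ : C →* G ⧸ Z := (QuotientGroup.mk' Z).comp C.subtype
      rw [← hCmap, ← Subgroup.card_mul_index φ.ker, Subgroup.index_ker, mul_comm]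
      congr 1
      · congr 2
        rw [MonoidHom.range_comp, Subgroup.range_subtype]
      · rw [show φ.ker = Z.subgroupOf C by
          ext x; simp [φ, Subgroup.mem_subgroupOf, QuotientGroup.eq_one_iff]]
        exact Nat.card_congr (Subgroup.subgroupOfEquivOfLe hZC).toEquiv
    have h1 : Nat.card ((S : Subgroup C).map C.subtype) ∣
        Nat.card (((S : Subgroup C).map C.subtype).map (QuotientGroup.mk' Z)) * Nat.card Z := by
      obtain ⟨B, hB⟩ : ∃ B, B = (S : Subgroup C).map C.subtype := ⟨_, rfl⟩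
      rw [← hB]
      let φ : B →* G ⧸ Z := (QuotientGroup.mk' Z).comp B.subtype
      rw [← Subgroup.card_mul_index φ.ker, Subgroup.index_ker, mul_comm,
        show φ.range = B.map (QuotientGroup.mk' Z) by rw [MonoidHom.range_comp, Subgroup.range_subtype]]
      refine mul_dvd_mul_left _ ?_
      rw [show φ.ker = (Z ⊓ B).subgroupOf B by
        ext x; simp [φ, Subgroup.mem_subgroupOf, QuotientGroup.eq_one_iff]]
      rw [Nat.card_congr (Subgroup.subgroupOfEquivOfLe inf_le_right).toEquiv]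
      exact Subgroup.card_dvd_of_le inf_le_left
    have h2 : p ^ a ∣ Nat.card ((S : Subgroup C).map C.subtype) := by
      rw [Nat.card_congr (Subgroup.equivMapOfInjective _ _ C.subtype_injective).symm.toEquiv]
      refine S.pow_dvd_card_of_pow_dvd_card ?_
      rw [hcardC, ha]
      exact dvd_mul_right _ _
    rw [ha]
    exact (Nat.Coprime.pow_left a ((Nat.Prime.coprime_iff_not_dvd Fact.out).2 hcop)).dvd_of_dvd_mul_right
      (h2.trans h1)
  refine ⟨(S : Subgroup C).map C.subtype, S.2.map _, himg, fun x hx hk => ?_⟩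
  rw [← himg] at hx
  obtain ⟨s, hs, hsx⟩ := Subgroup.mem_map.1 hx
  obtain ⟨k, hk⟩ := hk
  have hz : s⁻¹ * x ∈ Z := by
    rw [← QuotientGroup.eq]
    exact hsx
  obtain ⟨j, hj⟩ := (S.2.map C.subtype) ⟨s, hs⟩
  have hj' : s ^ p ^ j = 1 := congrArg Subtype.val hj
  have hcomm : Commute s⁻¹ x := by
    have h3 := Subgroup.mem_center_iff.1 (hZ hz) s
    have : s * (s⁻¹ * x) = (s⁻¹ * x) * s := h3
    rw [mul_inv_cancel_left] at this
    calc s⁻¹ * x = s⁻¹ * x * s * s⁻¹ := by group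
      _ = x * s⁻¹ := by rw [← this]
  have hone : (s⁻¹ * x) ^ p ^ (j + k) = 1 := by
    rw [hcomm.mul_pow, inv_pow, pow_add, pow_mul, hj', one_pow, inv_one, one_mul, ← pow_add,
      add_comm, pow_add, pow_mul, hk, one_pow]
  have hdiv : orderOf (s⁻¹ * x) ∣ Nat.card Z := by
    rw [← Subgroup.orderOf_mk _ hz]
    exact orderOf_dvd_natCard _
  obtain ⟨i, -, hi⟩ := (Nat.dvd_prime_pow Fact.out).1 (orderOf_dvd_of_pow_eq_one hone)
  have : s⁻¹ * x = 1 := by
    rw [← orderOf_eq_one_iff, hi]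
    rcases i with _ | i
    · rw [pow_zero]
    · exact absurd ((dvd_pow_self p (Nat.succ_ne_zero i)).trans (hi ▸ hdiv)) hcop
  rwa [← inv_mul_eq_one.1 this]

theorem exists_pow_rep (hcop : ¬ p ∣ Nat.card Z) (x : G ⧸ Z) (hx : ∃ k : ℕ, x ^ p ^ k = 1) :
    ∃ y : G, (y : G ⧸ Z) = x ∧ ∃ k : ℕ, y ^ p ^ k = 1 := by
  obtain ⟨y, rfl⟩ := QuotientGroup.mk_surjective x
  obtain ⟨k, hk⟩ := hx
  rw [← QuotientGroup.mk_pow, QuotientGroup.eq_one_iff] at hk
  have h1 : y ^ (p ^ k * Nat.card Z) = 1 := by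
    rw [pow_mul, ← orderOf_dvd_iff_pow_eq_one, ← Subgroup.orderOf_mk _ hk]
    exact orderOf_dvd_natCard _
  have hc : (p ^ k).Coprime (Nat.card Z) :=
    Nat.Coprime.pow_left k ((Nat.Prime.coprime_iff_not_dvd Fact.out).2 hcop)
  obtain ⟨e, he1, he2⟩ := Nat.chineseRemainder hc 1 0
  refine ⟨y ^ e, ?_, k, ?_⟩
  · rw [QuotientGroup.mk_pow]
    have h2 : ((y : G ⧸ Z)) ^ p ^ k = 1 := by
      rw [← QuotientGroup.mk_pow]; exact (QuotientGroup.eq_one_iff _).2 hk
    conv_rhs => rw [← pow_one (y : G ⧸ Z)]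
    exact pow_eq_pow_iff_modEq.2 (Nat.ModEq.of_dvd (orderOf_dvd_of_pow_eq_one h2) he1)
  · rw [← pow_mul]
    obtain ⟨t, rfl⟩ : Nat.card Z ∣ e := Nat.modEq_zero_iff_dvd.1 he2
    rw [show Nat.card Z * t * p ^ k = p ^ k * Nat.card Z * t by ring, pow_mul, h1, one_pow]

theorem joins_quotient (hZ : Z ≤ Subgroup.center G) (hcop : ¬ p ∣ Nat.card Z) (h : Joins p G) :
    Joins p (G ⧸ Z) := by
  intro A B hA hB hAB
  obtain ⟨A', hA', hAe, hAx⟩ := exists_lift hZ hcop A hA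
  obtain ⟨B', hB', hBe, hBx⟩ := exists_lift hZ hcop B hB
  rw [Ne, Subgroup.eq_bot_iff_forall] at hAB
  push Not at hAB
  obtain ⟨x, hx, hx1⟩ := hAB
  obtain ⟨k, hk⟩ := hA ⟨x, hx.1⟩
  obtain ⟨y, rfl, hy⟩ := exists_pow_rep hcop x ⟨k, congrArg Subtype.val hk⟩
  have hne : A' ⊓ B' ≠ ⊥ := by
    intro e
    have hy1 : y = 1 := Subgroup.mem_bot.1 (e ▸ ⟨hAx y hx.1 hy, hBx y hx.2 hy⟩)
    exact hx1 (by rw [hy1]; rfl)
  rw [← hAe, ← hBe, ← Subgroup.map_sup]
  exact (h A' B' hA' hB' hne).map _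

end Quot

variable {F : Type*} [Field F] [Fintype F] {q : ℕ} (hF : Fintype.card F = q ^ 2)
  {p : ℕ} [Fact p.Prime] [CharP F p]

include hF

theorem uni_of_isPGroup {A : Subgroup (Cfsg.SU 3 F q)} (hA : IsPGroup p A) {x : Cfsg.SU 3 F q}
    (hx : x ∈ A) {v : Fin 3 → F} (hv0 : v ≠ 0) (hvv : Cfsg.hermForm 3 F q v v = 0)
    (huniq : ∀ u, Cfsg.hermForm 3 F q u u = 0 → mat x *ᵥ u = u → ∃ a : F, u = a • v)
    (hx1 : x ≠ 1) :
    ∀ a ∈ A, Uni v a := by
  classical
  have : Nontrivial A := ⟨⟨⟨x, hx⟩, 1, fun e => hx1 (congrArg Subtype.val e)⟩⟩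
  have hc := hA.center_nontrivial
  obtain ⟨⟨z, hz⟩, hz1⟩ := exists_ne (1 : Subgroup.center A)
  have hnil : ∀ a ∈ A, IsNilpotent (mat a - 1) := fun a ha => by
    obtain ⟨k, hk⟩ := hA ⟨a, ha⟩
    exact sub_one_nilpotent (k := k) (congrArg Subtype.val hk)
  obtain ⟨w, hw0, hww, hzw, hwu⟩ := exists_fixed hF (g := (z : Cfsg.SU 3 F q)) (hnil _ z.2)
    (fun e => hz1 (Subtype.ext (Subtype.ext e)))
  have hline : ∀ a ∈ A, ∃ c : F, mat a *ᵥ w = c • w := by
    intro a ha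
    refine hwu _ (by rw [SU_H, hww]) ?_
    have hcm : (z : Cfsg.SU 3 F q) * a = a * z :=
      congrArg Subtype.val (Subgroup.mem_center_iff.1 hz ⟨a, ha⟩).symm
    rw [← mul_mulVec, hcm, mul_mulVec, hzw]
  obtain ⟨c, hc'⟩ := hline x hx
  rw [eq_one_of_smul (hnil x hx) hw0 hc', one_smul] at hc'
  obtain ⟨e, he⟩ := huniq w hww hc'
  have he0 : e ≠ 0 := fun h => hw0 (by rw [he, h, zero_smul])
  intro a ha
  obtain ⟨c1, hc1⟩ := hline a ha
  refine uni_of_nilpotent hF hv0 hvv (hnil a ha) (c := c1) ?_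
  rw [he, Matrix.mulVec_smul, smul_comm] at hc1
  exact smul_right_injective _ he0 hc1

theorem joins_SU : Joins p (Cfsg.SU 3 F q) := by
  intro A B hA hB hAB
  rw [Ne, Subgroup.eq_bot_iff_forall] at hAB
  push Not at hAB
  obtain ⟨x, hx, hx1⟩ := hAB
  obtain ⟨k, hk⟩ := hA ⟨x, hx.1⟩
  obtain ⟨v, hv0, hvv, -, huniq⟩ := exists_fixed hF (g := x)
    (sub_one_nilpotent (k := k) (congrArg Subtype.val hk)) hx1
  have hsub : ∀ g ∈ A ⊔ B, Uni v g := by
    intro g hg
    rw [Subgroup.sup_eq_closure] at hg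
    rw [← Subgroup.mem_toSubmonoid, Subgroup.closure_toSubmonoid_of_finite] at hg
    induction hg using Submonoid.closure_induction with
    | mem y hy =>
      rcases hy with hy | hy
      · exact uni_of_isPGroup hF hA hx.1 hv0 hvv huniq hx1 y hy
      · exact uni_of_isPGroup hF hB hx.2 hv0 hvv huniq hx1 y hy
    | one => exact uni_of_isPGroup hF hA hx.1 hv0 hvv huniq hx1 1 (one_mem A)
    | mul a b _ _ ha hb => exact uni_mul hF ha hb
  intro g
  obtain ⟨j, hj⟩ := uni_pow hF (p := p) (hsub g g.2)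
  exact ⟨j, Subtype.ext hj⟩

theorem not_dvd_center (hcop : ¬ p ∣ Nat.gcd 3 (q + 1)) :
    ¬ p ∣ Nat.card (Subgroup.center (Cfsg.SU 3 F q)) := by
  rwa [natCard_center hF (by norm_num)]

theorem joins_PSU (hcop : ¬ p ∣ Nat.gcd 3 (q + 1)) : Joins p (Cfsg.PSU 3 F q) :=
  joins_quotient le_rfl (not_dvd_center hF hcop) (joins_SU hF)

theorem not_normal (h2 : (2 : F) ≠ 0) (hq : Odd q) (hcop : ¬ p ∣ Nat.gcd 3 (q + 1))
    (hp : p ∣ Nat.card (Cfsg.PSU 3 F q)) (P : Sylow p (Cfsg.PSU 3 F q)) :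
    ¬ (P : Subgroup (Cfsg.PSU 3 F q)).Normal := by
  classical
  intro hn
  obtain ⟨A, hA, hAe, hAx⟩ := exists_lift (Z := Subgroup.center (Cfsg.SU 3 F q)) le_rfl
    (not_dvd_center hF hcop) P P.2
  have hP1 : (P : Subgroup (Cfsg.PSU 3 F q)) ≠ ⊥ := fun e => by
    have := P.dvd_card_of_dvd_card hp
    rw [e, Subgroup.card_bot, Nat.dvd_one] at this
    exact (Fact.out : p.Prime).one_lt.ne' this
  have hA1 : A ≠ ⊥ := fun e => hP1 (by rw [← hAe, e, Subgroup.map_bot])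
  obtain ⟨x, hx, hx1⟩ := (Subgroup.ne_bot_iff_exists_ne_one.1 hA1 : ∃ x : A, x ≠ 1) |>.elim
    fun a ha => (⟨a.1, a.2, fun e => ha (Subtype.ext e)⟩ : ∃ x ∈ A, x ≠ 1)
  obtain ⟨k, hk⟩ := hA ⟨x, hx⟩
  have hnil := sub_one_nilpotent (k := k) (congrArg Subtype.val hk : x ^ p ^ k = 1)
  obtain ⟨v, hv0, hvv, hxv, huniq⟩ := exists_fixed hF hnil hx1
  have hgen : ∀ g : Cfsg.SU 3 F q, ∃ c : F, mat g *ᵥ v = c • v := by
    intro g
    have hmem : g * x * g⁻¹ ∈ A := by
      refine hAx _ ?_ ⟨k, ?_⟩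
      · have h1 : (x : Cfsg.PSU 3 F q) ∈ (P : Subgroup (Cfsg.PSU 3 F q)) :=
          hAe ▸ Subgroup.mem_map_of_mem (QuotientGroup.mk' _) hx
        simpa using hn.conj_mem _ h1 (g : Cfsg.PSU 3 F q)
      · rw [conj_pow, show x ^ p ^ k = 1 from congrArg Subtype.val hk]; group
    have hU := uni_of_isPGroup hF hA hx hv0 hvv huniq hx1 _ hmem
    have hfix : mat x *ᵥ (mat g⁻¹ *ᵥ v) = mat g⁻¹ *ᵥ v := by
      conv_rhs => rw [← hU.1]
      rw [← mul_mulVec, ← mul_mulVec]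
      congr 2
      group
    obtain ⟨c, hc⟩ := huniq _ (by rw [SU_H, hvv]) hfix
    refine ⟨c⁻¹, ?_⟩
    have h2 : v = c • (mat g *ᵥ v) := by
      rw [← Matrix.mulVec_smul, ← hc, ← mul_mulVec, mul_inv_cancel, mat_one, Matrix.one_mulVec]
    have hc0 : c ≠ 0 := fun h => hv0 (by rw [h2, h, zero_smul])
    exact ((inv_smul_eq_iff₀ hc0).2 h2).symm
  have hs : ∀ d : Fin 3 → F, (∀ i, d i = 1 ∨ d i = -1) → d 0 * d 1 * d 2 = 1 →
      ∀ i j, v i ≠ 0 → v j ≠ 0 → d i = d j := by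
    intro d hd hdet i j hi hj
    have hdq : ∀ i, d i ^ (q + 1) = 1 := fun i => by
      rcases hd i with e | e <;> rw [e]
      · rw [one_pow]
      · rw [Even.neg_one_pow (Nat.even_add_one.2 (Nat.not_even_iff_odd.2 hq))]
    obtain ⟨c, hc⟩ := hgen (suMk (Matrix.diagonal d)
      (by rw [Matrix.det_diagonal, Fin.prod_univ_three, hdet]) (diag_preserves hF d hdq))
    rw [suMk_mulVec] at hc
    have e : ∀ l, v l ≠ 0 → d l = c := fun l hl => by
      have := congrFun hc l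
      rw [Matrix.mulVec_diagonal, Pi.smul_apply, smul_eq_mul] at this
      exact mul_right_cancel₀ hl this
    rw [e i hi, e j hj]
  have hne : (1 : F) ≠ -1 := fun e => h2 (by linear_combination e)
  have h01 : v 0 = 0 ∨ v 1 = 0 := by
    by_contra h; push Not at h
    exact hne (by simpa using hs ![1, -1, -1] (by intro i; fin_cases i <;> simp) (by simp) 0 1 h.1 h.2)
  have h02 : v 0 = 0 ∨ v 2 = 0 := by
    by_contra h; push Not at h
    exact hne (by simpa using hs ![1, -1, -1] (by intro i; fin_cases i <;> simp) (by simp) 0 2 h.1 h.2)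
  have h12 : v 1 = 0 ∨ v 2 = 0 := by
    by_contra h; push Not at h
    exact hne (by simpa using hs ![-1, 1, -1] (by intro i; fin_cases i <;> simp) (by simp) 1 2 h.1 h.2)
  simp only [Cfsg.hermForm, Fin.sum_univ_three] at hvv
  have hq0 : q ≠ 0 := q_ne_zero hF
  have e0 : ∀ a : F, a * a ^ q = 0 → a = 0 := fun a ha => by
    rcases mul_eq_zero.1 ha with h | h
    exacts [h, pow_eq_zero_iff hq0 |>.1 h]
  have all0 : v 0 = 0 ∧ v 1 = 0 ∧ v 2 = 0 := by
    rcases h01 with a | a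
    · rcases h12 with b | b
      · refine ⟨a, b, e0 _ ?_⟩; simpa [a, b] using hvv
      · refine ⟨a, e0 _ ?_, b⟩; simpa [a, b] using hvv
    · rcases h02 with b | b
      · refine ⟨b, a, e0 _ ?_⟩; simpa [a, b] using hvv
      · refine ⟨e0 _ ?_, a, b⟩; simpa [a, b] using hvv
  exact hv0 (funext fun i => by fin_cases i <;> simp [all0.1, all0.2.1, all0.2.2])

end Cfsg.Agent.SimpleFacts.MinIndexPSUFive.Basic
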