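import Cfsg.Agent.Lib.Classical.UnitaryBasic
import Cfsg.Agent.Lib.ShortPres.Carmichael
import Mathlib.Algebra.QuadraticAlgebra.Basic
import Mathlib.FieldTheory.Finite.Basic

/-!
The alternating group of degree seven in the projective special unitary group over the field with 25 elements.
-/

set_option autoImplicit false
set_option linter.style.haveILetI false

namespace Cfsg.Agent.SimpleFacts.MinIndexPSUFive.Witness

open Matrix Cfsg.Agent.Classical.Unitary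

/-- The field with 25 elements, with a square root of 3 shifted. -/
abbrev Q5 : Type := QuadraticAlgebra (ZMod 5) 3 4

/-- Five matrices. -/
def X : Fin 5 → Matrix (Fin 3) (Fin 3) Q5 :=
  ![!![⟨0, 2⟩, ⟨1, 1⟩, ⟨4, 2⟩; ⟨3, 0⟩, ⟨0, 0⟩, ⟨0, 4⟩; ⟨2, 0⟩, ⟨4, 1⟩, ⟨0, 3⟩],
    !![⟨0, 0⟩, ⟨0, 3⟩, ⟨0, 3⟩; ⟨0, 3⟩, ⟨1, 4⟩, ⟨4, 1⟩; ⟨0, 2⟩, ⟨1, 4⟩, ⟨4, 1⟩],
    !![⟨0, 3⟩, ⟨2, 1⟩, ⟨2, 1⟩; ⟨4, 3⟩, ⟨0, 0⟩, ⟨1, 4⟩; ⟨4, 0⟩, ⟨0, 4⟩, ⟨0, 2⟩],
    !![⟨2, 3⟩, ⟨2, 3⟩, ⟨2, 1⟩; ⟨3, 2⟩, ⟨1, 4⟩, ⟨4, 2⟩; ⟨2, 0⟩, ⟨1, 0⟩, ⟨2, 3⟩],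
    !![⟨3, 0⟩, ⟨4, 1⟩, ⟨2, 2⟩; ⟨2, 1⟩, ⟨2, 0⟩, ⟨0, 2⟩; ⟨0, 3⟩, ⟨2, 2⟩, ⟨0, 0⟩]]

theorem X_det : ∀ i, (X i).det = 1 := by decide +kernel

theorem X_unitary : ∀ i, (X i)ᵀ * (X i).map (fun a => a ^ 5) = 1 := by decide +kernel

theorem X_cube : ∀ i, X i * X i * X i = 1 := by decide +kernel

theorem X_pair : ∀ i j, i ≠ j →
    X i * X j * (X i * X j) = Matrix.diagonal fun _ => (X i * X j * (X i * X j)) 0 0 := by
  decide +kernel

theorem X_ne : X 0 0 1 ≠ 0 := by decide +kernel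

theorem X_ne' : X 0 0 1 * X 0 0 1 * X 0 0 1 * X 0 0 1 ≠ 0 := by decide +kernel

theorem X_unit : X 0 0 1 ^ 24 = 1 := by decide +kernel

theorem exists_hom {F : Type*} [Field F] [Fintype F] (hF : Fintype.card F = 25) :
    ∃ φ : alternatingGroup (Fin 7) →* Cfsg.PSU 3 F 5, Function.Injective φ := by
  classical
  have hF2 : Fintype.card F = 5 ^ 2 := by rw [hF]; norm_num
  haveI : Fact (Nat.Prime 5) := ⟨by norm_num⟩
  haveI : CharP F 5 := by
    obtain ⟨p, hp⟩ := CharP.exists F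
    obtain ⟨n, hpp, hn⟩ := FiniteField.card F p
    have h5 : p ∣ 5 ^ 2 := hF2 ▸ hn.symm ▸ dvd_pow_self p n.pos.ne'
    rwa [← (Nat.prime_dvd_prime_iff_eq hpp (by norm_num)).1 (hpp.dvd_of_dvd_pow h5)]
  letI : Algebra (ZMod 5) F := ZMod.algebra F 5
  obtain ⟨s, hs⟩ : IsSquare (3 : F) := by
    rw [FiniteField.isSquare_iff (by rw [ringChar.eq F 5]; norm_num) (fun h => by
      have h' : ((3 : ℕ) : F) = 0 := by exact_mod_cast h
      rw [CharP.cast_eq_zero_iff F 5] at h'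
      norm_num at h'), hF]
    have h' : ((3 ^ 12 : ℕ) : F) = ((1 : ℕ) : F) := by
      rw [CharP.natCast_eq_natCast F 5]; decide
    norm_num at h' ⊢
    exact h'
  obtain ⟨u, hu⟩ : ∃ u : F, u * u = 3 + 4 * u := ⟨3 * (s - 1), by
    have h5 : (5 : F) = 0 := by exact_mod_cast CharP.cast_eq_zero F 5
    linear_combination (-9 : F) * hs + (9 - 6 * s) * h5⟩
  obtain ⟨ψ, -⟩ : ∃ ψ : Q5 →ₐ[ZMod 5] F, ψ = QuadraticAlgebra.lift ⟨u, by
      rw [hu, Algebra.smul_def, Algebra.smul_def, mul_one, map_ofNat, map_ofNat]⟩ :=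
    ⟨_, rfl⟩
  have hdet : ∀ i, ((X i).map ψ).det = 1 := fun i => by
    rw [← AlgHom.mapMatrix_apply, ← AlgHom.map_det, X_det, map_one]
  have hpres : ∀ i, ∀ a b, Cfsg.hermForm 3 F 5 ((X i).map ψ *ᵥ a) ((X i).map ψ *ᵥ b) =
      Cfsg.hermForm 3 F 5 a b := fun i => by
    refine (preserves_iff hF2 _).2 ?_
    have h := congrArg (fun M : Matrix (Fin 3) (Fin 3) Q5 => M.map ψ) (X_unitary i)
    rw [Matrix.map_mul, Matrix.transpose_map, Matrix.map_map, Matrix.map_one _ (map_zero ψ) (map_one ψ)] at h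
    rw [← h, Matrix.map_map]
    congr 2
    funext a
    show (ψ a) ^ 5 = ψ (a ^ 5)
    rw [map_pow]
  let x : Fin 5 → Cfsg.PSU 3 F 5 := fun i =>
    QuotientGroup.mk (suMk ((X i).map ψ) (hdet i) (hpres i))
  let e : Cfsg.Agent.ShortPres.Alt.Rest (5 : Fin 7) 6 → Fin 5 := fun i =>
    if h : (i.1 : ℕ) < 5 then ⟨i.1, h⟩ else 0
  have hmat : ∀ i, mat (suMk ((X i).map ψ) (hdet i) (hpres i)) = (X i).map ψ := fun i =>
    mat_ext fun v => suMk_mulVec _ (hdet i) (hpres i) v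
  have hr : Cfsg.Agent.ShortPres.Alt.Rels (fun i => x (e i)) := by
    constructor
    · intro i
      show x (e i) ^ 3 = 1
      simp only [x, ← QuotientGroup.mk_pow, QuotientGroup.eq_one_iff]
      refine (mem_center_iff hF2 (by norm_num) _).2 ⟨1, ?_⟩
      rw [pow_three, ← mul_assoc, mat_mul, mat_mul, hmat, ← Matrix.map_mul, ← Matrix.map_mul, X_cube,
        Matrix.map_one _ (map_zero ψ) (map_one ψ), one_smul]
    · intro i j hij
      have hne : e i ≠ e j := by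
        intro h
        apply hij
        obtain ⟨⟨i, hi⟩, hi5, hi6⟩ := i
        obtain ⟨⟨j, hj⟩, hj5, hj6⟩ := j
        simp only [Ne, Fin.ext_iff] at hi5 hi6 hj5 hj6
        have hi' : i < 5 := by omega
        have hj' : j < 5 := by omega
        simp only [e, dif_pos hi', dif_pos hj', Fin.ext_iff] at h
        exact Subtype.ext (Fin.ext h)
      show (x (e i) * x (e j)) ^ 2 = 1
      simp only [x, ← QuotientGroup.mk_mul, ← QuotientGroup.mk_pow, QuotientGroup.eq_one_iff]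
      refine (mem_center_iff hF2 (by norm_num) _).2 ⟨ψ ((X (e i) * X (e j) * (X (e i) * X (e j))) 0 0), ?_⟩
      rw [sq, mat_mul, mat_mul, hmat, hmat, ← Matrix.map_mul, ← Matrix.map_mul]
      conv_lhs => rw [X_pair _ _ hne]
      rw [Matrix.diagonal_map (map_zero ψ), Matrix.smul_one_eq_diagonal]
  obtain ⟨φ, hφ⟩ := Cfsg.Agent.ShortPres.Alt.exists_hom (u := (5 : Fin 7)) (v := 6) (by decide)
    ⟨⟨0, by decide⟩⟩ hr
  haveI : IsSimpleGroup (alternatingGroup (Fin 7)) :=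
    alternatingGroup.isSimpleGroup (by rw [Nat.card_fin]; norm_num)
  have hne : φ.ker ≠ ⊤ := by
    intro h
    obtain ⟨i, hi⟩ : ∃ i : Cfsg.Agent.ShortPres.Alt.Rest (5 : Fin 7) 6, e i = 0 :=
      ⟨⟨0, by decide⟩, rfl⟩
    have h1 := hφ i
    rw [MonoidHom.mem_ker.1 (h ▸ Subgroup.mem_top _), hi] at h1
    simp only [x] at h1
    have h2 := (QuotientGroup.eq_one_iff _).1 h1.symm
    obtain ⟨a, ha⟩ := (mem_center_iff hF2 (by norm_num) _).1 h2
    rw [hmat] at ha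
    have h3 := congrFun (congrFun ha 0) 1
    simp only [Matrix.map_apply, Matrix.smul_apply, Matrix.one_apply_ne (show (0 : Fin 3) ≠ 1 by decide),
      smul_zero] at h3
    have h4 := congrArg (fun a : F => a ^ 24) h3
    simp only [← map_pow, X_unit, map_one] at h4
    norm_num at h4
  have hinj : Function.Injective φ := (MonoidHom.ker_eq_bot_iff φ).1
    ((Subgroup.Normal.eq_bot_or_eq_top inferInstance).resolve_right hne)
  exact ⟨φ, hinj⟩

theorem exists_alt {F : Type*} [Field F] [Fintype F] (hF : Fintype.card F = 25) :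
    ∃ H : Subgroup (Cfsg.PSU 3 F 5), Nat.card H = 2520 := by
  classical
  obtain ⟨φ, hinj⟩ := exists_hom hF
  refine ⟨φ.range, ?_⟩
  rw [Nat.card_congr (MonoidHom.ofInjective hinj).toEquiv.symm]
  have h2 : 2 * Nat.card (alternatingGroup (Fin 7)) = 5040 := by
    rw [two_mul_nat_card_alternatingGroup, Nat.card_eq_fintype_card, Fintype.card_perm, Fintype.card_fin]
    rfl
  omega

end Cfsg.Agent.SimpleFacts.MinIndexPSUFive.Witness
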